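import Cfsg.Agent.H261.PQ.Gr
import Cfsg.Agent.H54.PQ.Frame
import Cfsg.Prelude.Def_LieTypeChar
import Cfsg.Agent.H55.PQ.Red
import Cfsg.Agent.H54.PQ.Elt
import Cfsg.Agent.H55.PQ.Pr

/-!
# S4981, row D-PSL: `PSL_n(F)` in defining characteristic (helper261)

`row_psl_def : IsPSLChar p G → SFact p q G`.
-/

set_option autoImplicit false
set_option linter.unusedSectionVars false

namespace Cfsg.Agent.H261.PQ.RowPSL

open Subgroup Cfsg Cfsg.Agent.H54.PQ
open Cfsg.Agent.ClassicalGeometry.AutPSL.Root Cfsg.Agent.ClassicalGeometry.AutPSL.Auto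
  Cfsg.Agent.ClassicalGeometry.AutPSL.Main Cfsg.Agent.ClassicalGeometry.AutPSL.SylowU
open Cfsg.Agent.H261.PQ.Bru Cfsg.Agent.H261.PQ.Gr Cfsg.Agent.H55.PQ.Red
open Cfsg.Agent.H55.PQ (pr_false)

universe u v

section norm

variable {F : Type v} [Field F] [Finite F] {n : ℕ}

theorem tor_norm {t : Matrix.SpecialLinearGroup (Fin n) F} (ht : t ∈ tor n F)
    {h : Matrix.ProjectiveSpecialLinearGroup (Fin n) F} (hh : h ∈ (upper n F).map pr) :
    pr t * h * (pr t)⁻¹ ∈ (upper n F).map pr := by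
  obtain ⟨u, hu, rfl⟩ := hh
  exact ⟨t * u * t⁻¹, tor_conj ht hu, by rw [map_mul, map_mul, map_inv]⟩

theorem normalizer_eq : normalizer (((upper n F).map pr : Subgroup (Matrix.ProjectiveSpecialLinearGroup (Fin n) F)) :
    Set (Matrix.ProjectiveSpecialLinearGroup (Fin n) F)) = (bor n F).map pr := by
  apply le_antisymm
  · intro x hx
    obtain ⟨g, rfl⟩ := pr_surjective x
    obtain ⟨b, hb, m, hm, b', hb', rfl⟩ := bruhat g
    have h1 : ∀ {c : Matrix.SpecialLinearGroup (Fin n) F}, c ∈ upper n F → pr c ∈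
        normalizer (((upper n F).map pr : Subgroup (Matrix.ProjectiveSpecialLinearGroup (Fin n) F)) :
          Set (Matrix.ProjectiveSpecialLinearGroup (Fin n) F)) := fun hc => le_normalizer (mem_map_of_mem pr hc)
    have hm' : pr m ∈ normalizer (((upper n F).map pr : Subgroup (Matrix.ProjectiveSpecialLinearGroup (Fin n) F)) :
        Set (Matrix.ProjectiveSpecialLinearGroup (Fin n) F)) := by
      have h2 : pr m = (pr b)⁻¹ * pr (b * m * b') * (pr b')⁻¹ := by
        rw [map_mul, map_mul]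
        group
      rw [h2]
      exact mul_mem (mul_mem (inv_mem (h1 hb)) hx) (inv_mem (h1 hb'))
    have h3 : m ∈ tor n F := mem_tor_of_norm hm (fun u hu => by
      have := (mem_normalizer_iff.1 hm' (pr u)).1 (mem_map_of_mem pr hu)
      rwa [← map_inv, ← map_mul, ← map_mul] at this)
    exact mem_map_of_mem pr (mul_mem (mul_mem (upper_le_bor hb) (tor_le_bor h3)) (upper_le_bor hb'))
  · rw [← bor_eq, Subgroup.map_sup]
    refine sup_le le_normalizer ?_
    rintro _ ⟨t, ht, rfl⟩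
    rw [mem_normalizer_iff]
    intro h
    refine ⟨fun hh => tor_norm ht hh, fun hh => ?_⟩
    have h1 := tor_norm (inv_mem ht) hh
    have h2 : pr t⁻¹ * (pr t * h * (pr t)⁻¹) * (pr t⁻¹)⁻¹ = h := by
      rw [map_inv]
      group
    rw [h2] at h1
    exact h1

theorem tor_pow {t : Matrix.SpecialLinearGroup (Fin n) F} (ht : t ∈ tor n F) : t ^ (Nat.card F - 1) = 1 := by
  have h1 : ∀ k : ℕ, t ^ k ∈ tor n F ∧ ∀ i, (t ^ k).1 i i = t.1 i i ^ k := by
    intro k
    induction k with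
    | zero => exact ⟨by rw [pow_zero]; exact one_mem _, fun i => by
        rw [pow_zero, pow_zero]
        exact Matrix.one_apply_eq i⟩
    | succ k ih =>
      refine ⟨by rw [pow_succ]; exact mul_mem ih.1 ht, fun i => ?_⟩
      rw [pow_succ, pow_succ, mul_tor ht, ih.2]
  apply Subtype.ext
  ext i j
  by_cases h : i = j
  · subst h
    rw [(h1 _).2 i]
    have h2 : t.1 i i ≠ 0 := by
      intro h0
      have h3 : t * t⁻¹ = 1 := mul_inv_cancel t
      have h4 := congrFun (congrFun (congrArg Subtype.val h3) i) i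
      change (t * t⁻¹).1 i i = _ at h4
      rw [mul_tor (inv_mem ht), h0, zero_mul] at h4
      exact zero_ne_one (h4.trans (Matrix.one_apply_eq i))
    have := Fintype.ofFinite F
    rw [Nat.card_eq_fintype_card, FiniteField.pow_card_sub_one_eq_one _ h2]
    exact (Matrix.one_apply_eq i).symm
  · rw [mem_tor.1 (h1 _).1 i j (Ne.symm h)]
    exact (Matrix.one_apply_ne h).symm

theorem tor_coprime (p : ℕ) (hp : p.Prime) [CharP F p] : (Nat.card ((tor n F).map pr : Subgroup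
    (Matrix.ProjectiveSpecialLinearGroup (Fin n) F))).Coprime p := by
  have := Fact.mk hp
  rw [Nat.coprime_comm, hp.coprime_iff_not_dvd]
  intro h
  obtain ⟨⟨_, t, ht, rfl⟩, hx⟩ := exists_prime_orderOf_dvd_card' p h
  have h1 : p ∣ Nat.card F - 1 := by
    rw [← hx]
    apply orderOf_dvd_of_pow_eq_one
    apply Subtype.ext
    change (pr t) ^ (Nat.card F - 1) = 1
    rw [← map_pow, tor_pow ht, map_one]
  have h2 : p ∣ Nat.card F := by
    have := Fintype.ofFinite F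
    obtain ⟨f, -, hf⟩ := FiniteField.card F p
    rw [Nat.card_eq_fintype_card, hf]
    exact dvd_pow_self p f.pos.ne'
  have h3 := Nat.dvd_sub h2 h1
  rw [Nat.sub_sub_self Nat.card_pos] at h3
  exact hp.one_lt.ne' (Nat.dvd_one.1 h3)

end norm

/-- the frame: any abelian group of field and graph automorphisms -/
theorem frame {F : Type v} [Field F] [Fintype F] {p q : ℕ} (hp : p.Prime) (hq : q.Prime) (hpq : p ≠ q) [CharP F p]
    {m : ℕ} (hqS : ¬ q ∣ Nat.card (Matrix.ProjectiveSpecialLinearGroup (Fin (m + 2)) F))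
    {Γ : Type v} [CommGroup Γ] [Finite Γ] (Θ : Γ →* MulAut (Matrix.SpecialLinearGroup (Fin (m + 2)) F))
    (hinn : ∀ γ, (lift (Θ γ) : MulAut (Matrix.ProjectiveSpecialLinearGroup (Fin (m + 2)) F)) ∈ Cfsg.Inn _ → γ = 1)
    (hcard : Nat.card (Cfsg.Out (Matrix.ProjectiveSpecialLinearGroup (Fin (m + 2)) F)) =
      Nat.card Γ * Nat.gcd (m + 2) (Fintype.card F - 1))
    (hU : ∀ γ, ∀ g ∈ upper (m + 2) F, Θ γ g ∈ upper (m + 2) F)
    (hfix : ∀ (γ : Γ) (k : ℕ), orderOf γ = p ^ k → ∀ (u : F) (hu : u ≠ 0),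
      (∀ σ : F ≃+* F, (∃ k, orderOf σ = p ^ k) → σ u = u) → Θ γ (tt u hu) = tt u hu)
    (hfld : ∀ φ : Γ, φ ≠ 1 → (∃ k, orderOf φ = q ^ k) → q ≠ 2 → ∃ σ : F ≃+* F, σ ≠ 1 ∧ (∃ k, orderOf σ = q ^ k) ∧
      Θ φ = fld σ) :
    SFact p q (Matrix.ProjectiveSpecialLinearGroup (Fin (m + 2)) F) := by
  have := Fact.mk hp
  have := Fact.mk hq
  have hn : 2 ≤ m + 2 := by omega
  have hZ := H546.FaPSL.center (F := F) hn
  have hs := H254.isSolvable_out_of_sch (Schreier.ClassPSL.sch (F := F) hn)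
  have hqg : ¬ q ∣ Nat.gcd (m + 2) (Fintype.card F - 1) := fun h =>
    hqS (H546.FaPSL.dvd_card p hn hq (Or.inr (Or.inr (Nat.le_of_dvd (by omega) (h.trans (Nat.gcd_dvd_left _ _))))))
  have hq2 : q ≠ 2 := fun h => hqS (H546.FaPSL.dvd_card p hn hq (Or.inl h))
  have hpg : ¬ p ∣ Nat.gcd (m + 2) (Fintype.card F - 1) := by
    intro h
    have h1 : p ∣ Fintype.card F - 1 := h.trans (Nat.gcd_dvd_right _ _)
    obtain ⟨f, -, hf⟩ := FiniteField.card F p
    have h2 : p ∣ Fintype.card F := by rw [hf]; exact dvd_pow_self p f.pos.ne'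
    have h3 := Nat.dvd_sub h2 h1
    rw [Nat.sub_sub_self (Fintype.card_pos)] at h3
    exact hp.one_lt.ne' (Nat.dvd_one.1 h3)
  refine sfact_of_comm hZ hs (lift.comp Θ) ?_ ?_ ?_ ?_
  · intro γ hγ _ h
    rw [hinn γ h, orderOf_one] at hγ
    exact Nat.not_prime_one hγ
  · intro k hk
    rw [hcard] at hk
    exact Nat.Coprime.dvd_of_dvd_mul_right (Nat.Coprime.pow_left k ((Nat.Prime.coprime_iff_not_dvd hp).2 hpg)) hk
  · intro k hk
    rw [hcard] at hk
    exact Nat.Coprime.dvd_of_dvd_mul_right (Nat.Coprime.pow_left k ((Nat.Prime.coprime_iff_not_dvd hq).2 hqg)) hk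
  · intro _ _ _ _ A Φ hA hsyl ha φ hφ1 hφq hφΦ hinv
    obtain ⟨σ, hσ1, hσq, hσ⟩ := hfld φ hφ1 hφq hq2
    obtain ⟨u, hu, hup, huφ⟩ := exists_moved_elt hp hq hpq hq2 hσ1 hσq (m := 2) (by norm_num) (by norm_num)
    obtain ⟨P, hP⟩ := exists_sylow (F := F) (m + 2) p
    have hlift : ∀ (γ : Γ) (g : Matrix.SpecialLinearGroup (Fin (m + 2)) F), (lift.comp Θ) γ (pr g) = pr (Θ γ g) :=
      fun γ g => rfl
    refine pr_false hpq hZ hqS (lift.comp Θ) hA hsyl ha hinv hφq hφΦ ((bor (m + 2) F).map pr)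
      ((mon (m + 2) F).map pr) ((tor (m + 2) F).map pr) ((upper (m + 2) F).map pr) (hP ▸ P.isPGroup')
      (hP ▸ P.not_dvd_index) ?_ (Subgroup.map_mono tor_le_bor) (Subgroup.map_mono tor_le_mon)
      (by rw [← Subgroup.map_sup, bor_eq]) normalizer_eq ?_ ?_ ?_ ?_ ?_ ?_ (t := pr (tt u hu))
      (mem_map_of_mem pr (dg_mem _ _)) ?_ ?_ (tor_coprime p hp)
    · intro x
      obtain ⟨g, rfl⟩ := pr_surjective x
      obtain ⟨b, hb, m, hm, b', hb', rfl⟩ := bruhat g
      exact ⟨pr b, mem_map_of_mem pr (upper_le_bor hb), pr m, mem_map_of_mem pr hm, pr b',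
        mem_map_of_mem pr (upper_le_bor hb'), by rw [map_mul, map_mul]⟩
    · rintro _ ⟨t, ht, rfl⟩ _ ⟨t', ht', rfl⟩
      rw [← map_mul, tor_comm ht ht', map_mul]
    · rintro _ ⟨m, hm, rfl⟩ _ ⟨t, ht, rfl⟩
      exact ⟨m * t * m⁻¹, mon_conj hm ht, by rw [map_mul, map_mul, map_inv]⟩
    · rintro γ k - _ ⟨g, hg, rfl⟩
      rw [hlift]
      exact mem_map_of_mem pr (hU γ g hg)
    · rintro _ ⟨g, hg, rfl⟩
      rw [hlift]
      exact mem_map_of_mem pr (hU φ g hg)
    · rintro _ ⟨g, hg, rfl⟩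
      rw [hlift, hσ]
      exact mem_map_of_mem pr (fld_tor σ hg)
    · rintro _ ⟨m, hm, rfl⟩
      rw [hlift, hσ, ← map_inv, ← map_mul]
      refine mem_map_of_mem pr (mon_diff hm fun i j h => ?_)
      change σ (m.1 i j) = 0
      rw [h, map_zero]
    · intro γ k hγ
      rw [hlift, hfix γ k hγ u hu hup]
    · rw [hlift, hσ]
      exact moved hu huφ

/-- **D-PSL** -/
theorem row_psl_def {p q : ℕ} {G : Type u} [Group G] [Finite G] [IsSimpleGroup G]
    (_hc : ∃ a b : G, a * b ≠ b * a) (hG : Cfsg.IsPSLChar p G) : SFact p q G := by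
  obtain ⟨F, _, _, _, n, hn, h4, ⟨e⟩⟩ := hG
  refine sfact_congr e ?_
  intro hp hq hpq hqS
  obtain ⟨m, rfl⟩ : ∃ m, n = m + 2 := ⟨n - 2, by omega⟩
  have := Fact.mk hp
  have hout := Gr.card_out (F := F) p hn h4
  by_cases h2 : m = 0
  · subst h2
    rw [if_pos rfl, one_mul] at hout
    refine frame hp hq hpq hqS (Γ := Gam F) psi2 (fun γ h => inn_two hn h) hout
      (fun γ g hg => fld_upper (toF γ) hg) ?_ ?_ hp hq hpq hqS
    · intro γ k hγ u hu h
      exact fld_tt hu (h (toF γ) ⟨k, hγ⟩)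
    · intro φ hφ hφq _
      exact ⟨toF φ, hφ, hφq, rfl⟩
  · rw [if_neg (by omega)] at hout
    refine frame hp hq hpq hqS (Γ := ℤˣ × Gam F) psi3 (fun γ h => inn_three (by omega) h) ?_ ?_ ?_ ?_ hp hq hpq hqS
    · rw [hout, Nat.card_prod]
      congr 2
      rw [Nat.card_eq_fintype_card]
      rfl
    · rintro ⟨ε, σ⟩ g hg
      change grh ε (fld (toF σ) g) ∈ _
      have h1 := fld_upper (toF σ) hg
      rcases Int.units_eq_one_or ε with h | h
      · rw [h, map_one]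
        exact h1
      · rw [h, grh_neg]
        exact gr_upper h1
    · rintro ⟨ε, σ⟩ k hγ u hu h
      change grh ε (fld (toF σ) (tt u hu)) = _
      have h1 : orderOf (toF σ) ∣ p ^ k := by
        rw [← hγ]
        exact orderOf_map_dvd (MonoidHom.snd ℤˣ (Gam F)) (ε, σ)
      obtain ⟨j, -, hj⟩ := (Nat.dvd_prime_pow hp).1 h1
      rw [fld_tt hu (h (toF σ) ⟨j, hj⟩)]
      rcases Int.units_eq_one_or ε with h | h
      · rw [h, map_one]
        rfl
      · rw [h, grh_neg]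
        exact gr_tt hu
    · rintro ⟨ε, σ⟩ hφ ⟨k, hk⟩ hq2
      have h1 : orderOf (toF σ) ∣ q ^ k := by
        rw [← hk]
        exact orderOf_map_dvd (MonoidHom.snd ℤˣ (Gam F)) (ε, σ)
      have h2 : orderOf ε ∣ q ^ k := by
        rw [← hk]
        exact orderOf_map_dvd (MonoidHom.fst ℤˣ (Gam F)) (ε, σ)
      have h3 : orderOf ε ∣ 2 := by
        apply orderOf_dvd_of_pow_eq_one
        exact Int.units_sq ε
      have h4 : Nat.Coprime 2 (q ^ k) := Nat.Coprime.pow_right k ((Nat.coprime_primes Nat.prime_two hq).2 hq2.symm)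
      have h5 : ε = 1 := by
        have := Nat.dvd_gcd h3 h2
        rw [h4] at this
        exact orderOf_eq_one_iff.1 (Nat.dvd_one.1 this)
      subst h5
      obtain ⟨j, -, hj⟩ := (Nat.dvd_prime_pow hq).1 h1
      refine ⟨toF σ, fun h => hφ ?_, ⟨j, hj⟩, ?_⟩
      · have : σ = 1 := h
        rw [this]
        rfl
      · change grh 1 * fld (toF σ) = _
        rw [map_one, one_mul]

end Cfsg.Agent.H261.PQ.RowPSL
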